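import Mathlib
import Groth.Agent.DblTrLib.Main
import Groth.Agent.HilbObsLib.Sections
import Groth.Agent.RpushLib.FlatPull
import Groth.Agent.PicOneLib.Tf
import Groth.Agent.AmpleLib.Gen
import Groth.Agent.CohCmpLib.PuSec
import Groth.Agent.CohCmpLib.PullOnComp
import Groth.Agent.ModDescLib.Core

/-! Descent of subbundles along a double cover. -/

set_option autoImplicit false
set_option linter.style.haveILetI false
set_option maxHeartbeats 2000000
set_option backward.isDefEq.respectTransparency false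
set_option backward.isDefEq.respectTransparency.types false

universe u

open CategoryTheory CategoryTheory.Limits AlgebraicGeometry TopologicalSpace Opposite
open KFlatLib (pb puSec puSecLE)

noncomputable section

namespace DblDescLib

variable {X Y : Scheme.{u}} {π : X ⟶ Y} {σ : X ⟶ X}

/-- The action of `σ` on a pullback from `Y`. -/
def act (hσπ : σ ≫ π = π) (E : Y.Modules) : pb σ (pb π E) ⟶ pb π E :=
  (Scheme.Modules.pullbackComp σ π).hom.app E ≫ (Scheme.Modules.pullbackCongr hσπ).hom.app E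

theorem act_natural (hσπ : σ ≫ π = π) {E E' : Y.Modules} (φ : E ⟶ E') :
    (Scheme.Modules.pullback σ).map ((Scheme.Modules.pullback π).map φ) ≫ act hσπ E' =
      act hσπ E ≫ (Scheme.Modules.pullback π).map φ := by
  show _ ≫ _ ≫ _ = (_ ≫ _) ≫ _
  rw [← Category.assoc]
  erw [(Scheme.Modules.pullbackComp σ π).hom.naturality φ]
  rw [Category.assoc, Category.assoc]
  erw [(Scheme.Modules.pullbackCongr hσπ).hom.naturality φ]

theorem act_puSecLE (hσπ : σ ≫ π = π) (E : Y.Modules) {W : Y.Opens} (h : π ⁻¹ᵁ W ≤ σ ⁻¹ᵁ (π ⁻¹ᵁ W)) (e : Γ(E, W)) :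
    (act hσπ E).app (π ⁻¹ᵁ W) (puSecLE σ _ h (puSecLE π E le_rfl e)) = puSecLE π E le_rfl e := by
  show ((Scheme.Modules.pullbackCongr hσπ).hom.app E).app _ (((Scheme.Modules.pullbackComp σ π).hom.app E).app _
    (puSecLE σ _ h (puSecLE π E le_rfl e))) = _
  rw [CohCmpLib.pullbackComp_puSecLE σ π E e le_rfl h]
  exact CohCmpLib.pullbackCongr_puSec hσπ E e _ _

theorem puSecLE_self (E : Y.Modules) {W : Y.Opens} (e : Γ(E, W)) : puSecLE π E le_rfl e = puSec π e := by
  rw [KFlatLib.puSecLE_apply, show (homOfLE (le_refl (π ⁻¹ᵁ W))) = 𝟙 _ from Subsingleton.elim _ _]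
  erw [(pb π E).presheaf.map_id]
  rfl

/-- Torsion-free stalks give torsion-free sections. -/
theorem eq_zero_of_smul [IsIntegral X] (M : X.Modules) (htf : TorSh.IsTorsionFree M) {U : X.Opens} (g : Γ(X, U))
    (hg : g ≠ 0) (s : Γ(M, U)) (h : g • s = 0) : s = 0 := by
  refine TopCat.Presheaf.section_ext ((QCohLib.toAbF X).obj M) U s 0 fun x hx => ?_
  haveI : Module.IsTorsionFree (X.presheaf.stalk x) (M.presheaf.stalk x) := htf x
  have h1 : M.presheaf.germ U x hx (g • s) = 0 := by rw [h]; exact map_zero _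
  rw [AmpleLib.germ_smul] at h1
  rcases smul_eq_zero.1 h1 with h2 | h2
  · haveI : Nonempty U := ⟨⟨x, hx⟩⟩
    exact absurd (germ_injective_of_isIntegral X x hx (h2.trans (map_zero _).symm)) hg
  · exact h2.trans (map_zero (M.presheaf.germ U x hx).hom).symm

/-- An element of odd parity for `σ`. -/
theorem appLE_neg [IsIntegral X] {S : Scheme.{u}} (f : X ⟶ S) [IsSeparated f] (hσS : σ ≫ f = f) (hσ1 : σ ≠ 𝟙 X)
    (hσπ : σ ≫ π = π) {W : Y.Opens} (hU : IsAffineOpen (π ⁻¹ᵁ W)) {a : Γ(X, π ⁻¹ᵁ W)}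
    (hbij : Function.Bijective (fun p : Γ(Y, W) × Γ(Y, W) => π.app W p.1 + π.app W p.2 * a))
    {c : Γ(Y, W)} (hc : a * a = π.app W c) (hne : (π ⁻¹ᵁ W : Set X).Nonempty)
    (h : π ⁻¹ᵁ W ≤ σ ⁻¹ᵁ (π ⁻¹ᵁ W)) :
    (σ.appLE (π ⁻¹ᵁ W) (π ⁻¹ᵁ W) h).hom a = -a := by
  let s := (σ.appLE (π ⁻¹ᵁ W) (π ⁻¹ᵁ W) h).hom
  have hsπ : ∀ p : Γ(Y, W), s (π.app W p) = π.app W p := fun p => by
    have e : π.app W ≫ σ.appLE (π ⁻¹ᵁ W) (π ⁻¹ᵁ W) h = π.app W := by
      rw [Scheme.Hom.app_eq_appLE, Scheme.Hom.appLE_comp_appLE]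
      simp only [hσπ]
    exact congr($e p)
  haveI : Nonempty ((π ⁻¹ᵁ W : X.Opens) : Scheme.{u}) := ⟨⟨hne.some, hne.some_mem⟩⟩
  haveI : Nonempty ↑(π ⁻¹ᵁ W) := ⟨⟨hne.some, hne.some_mem⟩⟩
  haveI : IsDomain Γ(X, π ⁻¹ᵁ W) := IsIntegral.component_integral (π ⁻¹ᵁ W)
  have hsq : s a * s a = a * a := by rw [← map_mul, hc, hsπ]
  rcases mul_self_eq_mul_self_iff.1 hsq with he | he
  · exfalso
    have hid : σ.appLE (π ⁻¹ᵁ W) (π ⁻¹ᵁ W) h = 𝟙 _ := by
      ext b
      obtain ⟨p, rfl⟩ := hbij.2 b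
      show s (π.app W p.1 + π.app W p.2 * a) = _
      rw [map_add, map_mul, hsπ, hsπ, he]
      rfl
    have hfs := IsAffineOpen.SpecMap_appLE_fromSpec σ hU hU h
    rw [hid, Spec.map_id] at hfs
    erw [Category.id_comp] at hfs
    haveI : IsDominant hU.fromSpec := ⟨by
      rw [DenseRange, IsAffineOpen.range_fromSpec]
      exact (π ⁻¹ᵁ W).2.dense hne⟩
    refine hσ1 (ext_of_isDominant_of_isSeparated f (by rw [hσS, Category.id_comp]) hU.fromSpec ?_)
    rw [← hfs, Category.comp_id]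
  · exact he

variable [IsLocallyNoetherian Y] [IsIntegral X] [IsFinite π] [Flat π]

/-- A `σ`-stable subbundle of a pullback descends. -/
theorem descends_of_stable (hrk : ∀ y : Y, π.finrank y = 2) (h2 : IsUnit (2 : Γ(Y, ⊤))) [Surjective π]
    {S : Scheme.{u}} (f : X ⟶ S) [IsSeparated f] (hσS : σ ≫ f = f) (hσ1 : σ ≠ 𝟙 X) (hσπ : σ ≫ π = π)
    (E : Y.Modules) [Coh.IsQCoh E] {F : X.Modules} (i : F ⟶ pb π E) [Mono i]
    (hsub : FlatMod.IsFinLocFree (cokernel i)) [Coh.IsQCoh (cokernel i)] (j : pb σ F ⟶ F)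
    (hj : j ≫ i = (Scheme.Modules.pullback σ).map i ≫ act hσπ E) :
    ∃ (F' : Y.Modules) (i' : F' ⟶ E) (e : pb π F' ≅ F),
      Mono i' ∧ e.hom ≫ i = (Scheme.Modules.pullback π).map i' := by
  haveI := KFlatLib.isQCoh_pullback π E
  haveI := QCohLib.isQCoh_pushforward π (cokernel i)
  let adj := Scheme.Modules.pullbackPushforwardAdjunction π
  let q : pb π E ⟶ cokernel i := cokernel.π i
  let g : E ⟶ (Scheme.Modules.pushforward π).obj (cokernel i) := adj.homEquiv _ _ q
  haveI : Coh.IsQCoh (kernel g) := QCohLib.isQCoh_kernel g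
  haveI := KFlatLib.isQCoh_pullback π (kernel g)
  haveI := RpushLib.preservesMonomorphisms_pullback π
  have hzero : (Scheme.Modules.pullback π).map (kernel.ι g) ≫ q = 0 := by
    apply (adj.homEquiv _ _).injective
    rw [adj.homEquiv_naturality_left]
    exact (kernel.condition g).trans (by simp [Adjunction.homEquiv_unit])
  let e := Abelian.monoLift i ((Scheme.Modules.pullback π).map (kernel.ι g)) hzero
  have he : e ≫ i = (Scheme.Modules.pullback π).map (kernel.ι g) := Abelian.monoLift_comp _ _ _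
  haveI : Mono e := by
    haveI : Mono (e ≫ i) := by rw [he]; infer_instance
    exact mono_of_mono e i
  haveI : Coh.IsQCoh (kernel (cokernel.π i)) := QCohLib.isQCoh_kernel _
  haveI : Coh.IsQCoh F := QCohLib.isQCoh_of_iso (show kernel (cokernel.π i) ≅ F from
    IsLimit.conePointUniqueUpToIso (limit.isLimit _) (Abelian.monoIsKernelOfCokernel _ (cokernelIsCokernel i)))
  have hd := DblTrLib.rank_dirO π hrk
  obtain ⟨τ, hτ⟩ := DblTrLib.exists_isTr hd
  haveI : Epi e := HilbObsLib.epi_of_app_surjective e fun x => by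
    obtain ⟨W, a, k, hW, hxW, -, -, hbij, c, hc⟩ := DblTrLib.exists_chart hd hτ h2 (π x)
    have hU : IsAffineOpen (π ⁻¹ᵁ W) := hW.preimage π
    refine ⟨π ⁻¹ᵁ W, hU, hxW, fun z => ?_⟩
    let U := π ⁻¹ᵁ W
    have h : U ≤ σ ⁻¹ᵁ U := by
      rw [show σ ⁻¹ᵁ U = (σ ≫ π) ⁻¹ᵁ W from rfl, hσπ]
    have hneg := appLE_neg f hσS hσ1 hσπ hU hbij hc ⟨x, hxW⟩ h
    have hσp : ∀ p : Γ(Y, W), (σ.appLE U U h).hom (π.app W p) = π.app W p := fun p => by
      have e : π.app W ≫ σ.appLE U U h = π.app W := by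
        rw [Scheme.Hom.app_eq_appLE, Scheme.Hom.appLE_comp_appLE]
        simp only [hσπ]
        rfl
      exact congr($e p)
    have ha0 : a ≠ 0 := fun h0 => by
      haveI : Nonempty W := ⟨⟨π x, hxW⟩⟩
      have := congrArg Prod.snd (hbij.1 (a₁ := (0, 1)) (a₂ := (0, 0)) (by simp [h0]))
      exact one_ne_zero (α := Γ(Y, W)) this
    let u : Γ(E, W) → Γ(pb π E, U) := fun e => puSecLE π E le_rfl e
    have husmul : ∀ (p : Γ(Y, W)) (m : Γ(E, W)), u (p • m) = π.app W p • u m := fun p m => by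
      refine (KFlatLib.puSecLE_smul π E le_rfl p m).trans ?_
      rw [Scheme.Hom.app_eq_appLE]
    have hdec : ∀ y : Γ(pb π E, U), ∃ e₁ e₂ : Γ(E, W), y = u e₁ + a • u e₂ := fun y => by
      have hy : y ∈ Submodule.span Γ(X, U) (Set.range fun m : Γ(E, W) => puSec π m) := by
        exact (ModDescLib.span_puSec π E hW id (by simp)).ge Submodule.mem_top
      induction hy using Submodule.span_induction with
      | mem y hy =>
        obtain ⟨m, rfl⟩ := hy
        exact ⟨m, 0, by rw [show u 0 = 0 from map_zero _, smul_zero, add_zero]; exact (puSecLE_self E m).symm⟩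
      | zero => exact ⟨0, 0, by simp [u]⟩
      | add y y' _ _ hy hy' =>
        obtain ⟨e₁, e₂, rfl⟩ := hy
        obtain ⟨d₁, d₂, rfl⟩ := hy'
        exact ⟨e₁ + d₁, e₂ + d₂, by simp only [u, map_add, smul_add]; abel⟩
      | smul b y _ hy =>
        obtain ⟨e₁, e₂, rfl⟩ := hy
        obtain ⟨p, rfl⟩ := hbij.2 b
        refine ⟨p.1 • e₁ + (p.2 * c) • e₂, p.1 • e₂ + p.2 • e₁, ?_⟩
        have hadd : ∀ m m' : Γ(E, W), u (m + m') = u m + u m' := fun m m' => map_add _ _ _
        rw [hadd, hadd, husmul, husmul, husmul, husmul, map_mul, ← hc]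
        module
    obtain ⟨e₁, e₂, hy⟩ := hdec (i.app U z)
    have h1 : ((act hσπ E).app U (puSecLE σ _ h (i.app U z))) = u e₁ - a • u e₂ := by
      rw [hy, map_add, map_add, KFlatLib.puSecLE_smul, QCohLib.app_smul, hneg, act_puSecLE, act_puSecLE, neg_smul,
        sub_eq_add_neg]
    have hqi : ∀ t : Γ(F, U), q.app U (i.app U t) = 0 := fun t =>
      congr(Scheme.Modules.Hom.app $(cokernel.condition i) U t)
    have hA : q.app U (u e₁) + a • q.app U (u e₂) = 0 := by
      rw [← QCohLib.app_smul, ← map_add, ← hy]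
      exact hqi z
    have hB : q.app U (u e₁) - a • q.app U (u e₂) = 0 := by
      rw [← QCohLib.app_smul, ← map_sub, ← h1]
      have := hqi (j.app U (puSecLE σ F h z))
      rw [show i.app U (j.app U (puSecLE σ F h z)) = (act hσπ E).app U (puSecLE σ _ h (i.app U z)) from
        (congr(Scheme.Modules.Hom.app $hj U (puSecLE σ F h z))).trans
          (congrArg ((act hσπ E).app U) (CohCmpLib.puSecLE_natural σ i h z))] at this
      exact this
    have h2U : IsUnit (2 : Γ(X, U)) := by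
      rw [← map_ofNat (π.app W).hom 2]
      exact (DblTrLib.isUnit_two h2 W).map _
    have hq1 : q.app U (u e₁) = 0 := by
      have h3 : (2 : Γ(X, U)) • q.app U (u e₁) = 0 := by
        rw [two_smul]
        have := congrArg₂ (· + ·) hA hB
        simp only [add_zero] at this
        rw [← this]; abel
      exact h2U.smul_eq_zero.1 h3
    have hq2 : q.app U (u e₂) = 0 := by
      rw [hq1, zero_add] at hA
      exact eq_zero_of_smul (X := X) _ (PicOneLib.torsionFree_of_isFinLocFree hsub) a ha0 _ hA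
    have hgk : ∀ m : Γ(E, W), q.app U (u m) = 0 → ∃ m' : Γ(kernel g, W), (kernel.ι g).app W m' = m := fun m hm => by
      refine GrassSch.exists_lift_kernel g m ?_
      refine (congr(Scheme.Modules.Hom.app $(adj.homEquiv_unit _ _ q) W m)).trans ?_
      show q.app U (puSec π m) = 0
      rw [← puSecLE_self]
      exact hm
    obtain ⟨f₁, hf₁⟩ := hgk e₁ hq1
    obtain ⟨f₂, hf₂⟩ := hgk e₂ hq2
    refine ⟨puSecLE π _ le_rfl f₁ + a • puSecLE π _ le_rfl f₂, QCohLib.app_injective_of_mono i U ?_⟩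
    rw [show i.app U (e.app U (puSecLE π _ le_rfl f₁ + a • puSecLE π _ le_rfl f₂)) =
      ((Scheme.Modules.pullback π).map (kernel.ι g)).app U (puSecLE π _ le_rfl f₁ + a • puSecLE π _ le_rfl f₂) from
        congr(Scheme.Modules.Hom.app $he U _)]
    rw [map_add, QCohLib.app_smul, CohCmpLib.puSecLE_natural, CohCmpLib.puSecLE_natural, hf₁, hf₂]
    exact hy.symm
  haveI : IsIso e := isIso_of_mono_of_epi e
  exact ⟨kernel g, kernel.ι g, asIso e, inferInstance, he⟩

/-- A descended subobject is stable. -/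
theorem stable_of_descends (hσπ : σ ≫ π = π) {E F' : Y.Modules} {F : X.Modules} (i : F ⟶ pb π E) (i' : F' ⟶ E)
    (e : pb π F' ≅ F) (he : e.hom ≫ i = (Scheme.Modules.pullback π).map i') :
    ∃ j : pb σ F ⟶ F, j ≫ i = (Scheme.Modules.pullback σ).map i ≫ act hσπ E := by
  refine ⟨(Scheme.Modules.pullback σ).map e.inv ≫ act hσπ F' ≫ e.hom, ?_⟩
  rw [Category.assoc, Category.assoc, he, ← act_natural, ← Category.assoc, ← Functor.map_comp, ← he,
    Iso.inv_hom_id_assoc]

end DblDescLib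

end
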